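import Cfsg.Agent.LyMat.Main

/-!
Divisors of the order of the presented Lyons group: orbits of a vector under matrices that are
images of group elements, by the representation of degree 111.
-/

set_option autoImplicit false
set_option maxRecDepth 100000

namespace Cfsg.Agent.DCoset.LyOrb

open Cfsg.Agent.LyMat Cfsg.Agent.CosetCert Cfsg.Spor

/-- A packed row, repeated to make a matrix. -/
noncomputable def vMat (r : Nat) : Matrix (Fin 111) (Fin 111) (ZMod 5) :=
  toMat 111 (List.replicate 111 r)

/-- A row is reduced. -/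
noncomputable def rowOk (r : Nat) : Bool :=
  Nat.blt r (16777216 ^ 111) && allFrom (fun j => Nat.blt (fieldN r j) 5) 0 111

theorem good_replicate {r : Nat} (h : rowOk r = true) : Good 111 (List.replicate 111 r) := by
  simp only [rowOk, Bool.and_eq_true] at h
  obtain ⟨h1, h2⟩ := h
  refine ⟨List.length_replicate, fun s hs => ?_⟩
  obtain rfl := List.eq_of_mem_replicate hs
  refine ⟨fun j => if j < 111 then fieldN s j else 0, fun j => ?_, ?_⟩
  · show (if j < 111 then fieldN s j else 0) < 5
    split
    · exact Nat.ble_eq.mp ((allFrom_iff _ _ _).1 h2 j (Nat.zero_le _) (by omega))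
    · norm_num
  · conv_lhs => rw [← pk_field 111 s (Nat.ble_eq.mp h1)]
    exact pk_congr 111 fun j hj => by rw [if_pos hj]

theorem vMat_inj {r r' : Nat} (h : rowOk r = true) (h' : rowOk r' = true) (e : vMat r = vMat r') :
    r = r' := by
  simp only [rowOk, Bool.and_eq_true] at h h'
  rw [← pk_field 111 r (Nat.ble_eq.mp h.1), ← pk_field 111 r' (Nat.ble_eq.mp h'.1)]
  refine pk_congr 111 fun j hj => ?_
  have he : vMat r ⟨0, by norm_num⟩ ⟨j, hj⟩ = vMat r' ⟨0, by norm_num⟩ ⟨j, hj⟩ := by rw [e]
  have e0 : ∀ s : Nat, (List.replicate 111 s).getD 0 0 = s := fun s => rfl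
  simp only [vMat, toMat, Matrix.of_apply, e0, ZMod.natCast_eq_natCast_iff'] at he
  rwa [Nat.mod_eq_of_lt (Nat.ble_eq.mp ((allFrom_iff _ _ _).1 h.2 j (Nat.zero_le _) (by omega))),
    Nat.mod_eq_of_lt (Nat.ble_eq.mp ((allFrom_iff _ _ _).1 h'.2 j (Nat.zero_le _) (by omega)))] at he

/-- A row times a stored matrix. -/
noncomputable def step (B : List Blk) (r : Nat) : Nat := red mask111 (comb B r)

theorem step_spec {r : Nat} (h : rowOk r = true) {B : List Blk} (hB : Good 111 (rowsOf 111 B)) :
    vMat (step B r) = vMat r * toMat 111 (rowsOf 111 B) := by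
  rw [vMat, vMat, ← (mul_spec (by norm_num) (good_replicate h) hB).2, List.map_replicate, step,
    mask111_eq]

/-- `M` is the matrix of a group element. -/
def IsImg (M : Matrix (Fin 111) (Fin 111) (ZMod 5)) : Prop :=
  ∃ g : PresentedGroup lyRels, ((lyRep g : (Matrix (Fin 111) (Fin 111) (ZMod 5))ˣ) :
    Matrix (Fin 111) (Fin 111) (ZMod 5)) = M

theorem isImg_prod : ∀ l : List (Matrix (Fin 111) (Fin 111) (ZMod 5)), (∀ M ∈ l, IsImg M) →
    IsImg l.prod
  | [], _ => ⟨1, by simp⟩
  | M :: l, h => by
    obtain ⟨g, hg⟩ := h M List.mem_cons_self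
    obtain ⟨g', hg'⟩ := isImg_prod l fun N hN => h N (List.mem_cons_of_mem _ hN)
    exact ⟨g * g', by rw [map_mul, Units.val_mul, hg, hg', List.prod_cons]⟩

theorem coe_genImg_z {R : Type*} [Monoid R] (M : Nat → R) (h : InvOK M) (i : Fin 5) (g : Ly.Gen)
    (hg : expG g = [(i, true)]) : ((genImg (unitOf M h) g : Rˣ) : R) = M i.val := by
  rw [genImg, hg, coe_lift]
  simp [code]

theorem lyRep_of (g : Ly.Gen) : lyRep (PresentedGroup.of g) = genImg (unitOf M111 inv111) g := by
  rw [lyRep, PresentedGroup.toGroup.of]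

theorem isImg_letter : ∀ x, x < 10 → IsImg (M111 x) := by
  have h1 : ∀ i : Fin 5, ∃ g : PresentedGroup lyRels, lyRep g = unitOf M111 inv111 i := by
    intro i
    refine ⟨PresentedGroup.of (![Ly.Gen.a, .b, .c, .d, .z] i), Units.ext ?_⟩
    rw [lyRep_of, coe_genImg_z M111 inv111 i _ (by fin_cases i <;> rfl)]
    rfl
  intro x hx
  rcases Nat.lt_or_ge x 5 with h | h
  · obtain ⟨g, hg⟩ := h1 ⟨x, h⟩
    exact ⟨g, by rw [hg]; rfl⟩
  · obtain ⟨g, hg⟩ := h1 ⟨x - 5, by omega⟩
    refine ⟨g⁻¹, ?_⟩
    rw [map_inv, hg]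
    show M111 (x - 5 + 5) = M111 x
    rw [Nat.sub_add_cancel h]

/-- An orbit certificate: rows in ascending order, generators, their images, and a tree. -/
structure Orb where
  len : Nat
  row : Nat → Nat
  nGen : Nat
  gen : Nat → List Blk
  tgt : Nat → Nat → Nat
  root : Nat
  par : Nat → Nat
  via : Nat → Nat
  rank : Nat → Nat

/-- The checks at row `i`. -/
noncomputable def Orb.check (O : Orb) (i : Nat) : Bool :=
  force (O.row i) fun r => gate (rowOk r)
    (gate (Bool.rec (motive := fun _ => Bool) (Nat.blt r (O.row (Nat.succ i))) true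
        (Nat.ble O.len (Nat.succ i)))
      (gate (allFrom (fun k => gate (Nat.blt (O.tgt i k) O.len)
          (Nat.beq (step (O.gen k) r) (O.row (O.tgt i k)))) 0 O.nGen)
        (Bool.rec (motive := fun _ => Bool)
          (gate (Nat.blt (O.par i) O.len) (gate (Nat.blt (O.via i) O.nGen)
            (gate (Nat.blt (O.rank (O.par i)) (O.rank i))
              (Nat.beq (O.tgt (O.par i) (O.via i)) i))))
          true (Nat.beq i O.root))))

/-- A valid orbit certificate gives a divisor of the order of the group. -/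
theorem Orb.dvd_card (O : Orb) [Finite (PresentedGroup lyRels)] (hroot : O.root < O.len)
    (hgood : ∀ k, k < O.nGen → Good 111 (rowsOf 111 (O.gen k)) ∧
      IsImg (toMat 111 (rowsOf 111 (O.gen k))))
    (hchk : ∀ i, i < O.len → O.check i = true) : O.len ∣ Nat.card (PresentedGroup lyRels) := by
  classical
  have hc : ∀ i, i < O.len → rowOk (O.row i) = true ∧ (i + 1 < O.len → O.row i < O.row (i + 1)) ∧
      (∀ k, k < O.nGen → O.tgt i k < O.len ∧ step (O.gen k) (O.row i) = O.row (O.tgt i k)) ∧
      (i ≠ O.root → O.par i < O.len ∧ O.via i < O.nGen ∧ O.rank (O.par i) < O.rank i ∧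
        O.tgt (O.par i) (O.via i) = i) := by
    intro i hi
    have h := hchk i hi
    simp only [Orb.check, force_eq, gate_eq, Bool.and_eq_true] at h
    obtain ⟨h1, h2, h3, h4⟩ := h
    refine ⟨h1, fun hlt => ?_, fun k hk => ?_, fun hne => ?_⟩
    · have hb : Nat.ble O.len (Nat.succ i) = false := by
        cases hb : Nat.ble O.len (Nat.succ i)
        · rfl
        · exact absurd (Nat.ble_eq.mp hb) (by omega)
      rw [hb] at h2
      exact Nat.ble_eq.mp h2
    · have := (allFrom_iff _ _ _).1 h3 k (Nat.zero_le _) (by omega)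
      simp only [gate_eq, Bool.and_eq_true] at this
      exact ⟨Nat.ble_eq.mp this.1, Nat.eq_of_beq_eq_true this.2⟩
    · have hb : Nat.beq i O.root = false := by
        cases hb : Nat.beq i O.root
        · rfl
        · exact absurd (Nat.eq_of_beq_eq_true hb) hne
      rw [hb] at h4
      simp only [Bool.and_eq_true] at h4
      exact ⟨Nat.ble_eq.mp h4.1, Nat.ble_eq.mp h4.2.1, Nat.ble_eq.mp h4.2.2.1,
        Nat.eq_of_beq_eq_true h4.2.2.2⟩
  have hmono : ∀ j, j < O.len → ∀ i, i < j → O.row i < O.row j := by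
    intro j
    induction j with
    | zero => intros; omega
    | succ j ih =>
      intro hj i hi
      rcases Nat.lt_or_ge i j with h | h
      · exact lt_trans (ih (by omega) i h) ((hc j (by omega)).2.1 hj)
      · obtain rfl : i = j := by omega
        exact (hc i (by omega)).2.1 hj
  choose el hel using fun k : Fin O.nGen => (hgood k.1 k.2).2
  let P : Subgroup (PresentedGroup lyRels) := Subgroup.closure (Set.range el)
  let X := Matrix (Fin 111) (Fin 111) (ZMod 5)
  let pt : Fin O.len → X := fun i => vMat (O.row i)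
  have hinj : Function.Injective pt := by
    intro i j e
    have er := vMat_inj (hc i i.2).1 (hc j j.2).1 e
    rcases lt_trichotomy i.1 j.1 with h | h | h
    · exact absurd er (hmono j j.2 i h).ne
    · exact Fin.ext h
    · exact absurd er.symm (hmono i i.2 j h).ne
  let S : Finset X := Finset.univ.image pt
  have hS : ∀ A, A ∈ S ↔ ∃ i, pt i = A := by simp [S]
  letI act : MulAction P X :=
    { smul := fun g A => A * ((lyRep ((g : PresentedGroup lyRels))⁻¹ : Xˣ) : X)
      one_smul := fun A => by
        show A * ((lyRep ((1 : P) : PresentedGroup lyRels)⁻¹ : Xˣ) : X) = A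
        simp
      mul_smul := fun g h A => by
        show A * ((lyRep (((g * h : P) : PresentedGroup lyRels))⁻¹ : Xˣ) : X) =
          A * ((lyRep ((h : PresentedGroup lyRels))⁻¹ : Xˣ) : X) *
            ((lyRep ((g : PresentedGroup lyRels))⁻¹ : Xˣ) : X)
        rw [Subgroup.coe_mul, mul_inv_rev, map_mul, Units.val_mul, mul_assoc] }
  have hfix : ∀ g ∈ P, ∀ A ∈ S, A * ((lyRep g : Xˣ) : X) ∈ S := by
    intro g hg
    induction hg using Subgroup.closure_induction with
    | mem x hx =>
      obtain ⟨k, rfl⟩ := hx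
      intro A hA
      obtain ⟨i, rfl⟩ := (hS A).1 hA
      obtain ⟨h1, h2⟩ := (hc i i.2).2.2.1 k k.2
      refine (hS _).2 ⟨⟨_, h1⟩, ?_⟩
      show vMat (O.row (O.tgt i k)) = _
      rw [← h2, step_spec (hc i i.2).1 (hgood k k.2).1, hel]
    | one => intro A hA; simpa using hA
    | mul x y _ _ hx hy =>
      intro A hA
      rw [map_mul, Units.val_mul, ← mul_assoc]
      exact hy _ (hx A hA)
    | inv x _ hx =>
      intro A hA
      have himg : S.image (fun B => B * ((lyRep x : Xˣ) : X)) = S := by
        apply Finset.eq_of_subset_of_card_le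
        · intro B hB
          obtain ⟨B', hB', rfl⟩ := Finset.mem_image.1 hB
          exact hx B' hB'
        · exact le_of_eq (Finset.card_image_of_injective _
            (fun B B' h => (Units.mul_left_inj (lyRep x)).1 h)).symm
      rw [← himg] at hA
      obtain ⟨B, hB, rfl⟩ := Finset.mem_image.1 hA
      rw [map_inv, mul_assoc, Units.mul_inv, mul_one]
      exact hB
  let a : X := pt ⟨O.root, hroot⟩
  have horb : MulAction.orbit P a = (S : Set X) := by
    apply Set.Subset.antisymm
    · rintro _ ⟨g, rfl⟩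
      exact hfix _ (P.inv_mem g.2) a ((hS a).2 ⟨_, rfl⟩)
    · intro A hA
      obtain ⟨i, rfl⟩ := (hS A).1 hA
      obtain ⟨i, hi⟩ := i
      induction hr : O.rank i using Nat.strong_induction_on generalizing i with
      | _ r ih =>
        by_cases he : i = O.root
        · subst he; exact MulAction.mem_orbit_self _
        · obtain ⟨hp, hv, hlt, ht⟩ := (hc i hi).2.2.2 he
          obtain ⟨g, hg⟩ := ih _ (hr ▸ hlt) _ hp ((hS _).2 ⟨⟨_, hp⟩, rfl⟩) rfl
          refine ⟨(⟨el ⟨O.via i, hv⟩, Subgroup.subset_closure ⟨_, rfl⟩⟩ : P)⁻¹ * g, ?_⟩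
          show ((⟨el ⟨O.via i, hv⟩, Subgroup.subset_closure ⟨_, rfl⟩⟩ : P)⁻¹ * g) • a = _
          rw [mul_smul]
          show (g • a) * ((lyRep (((⟨el ⟨O.via i, hv⟩, _⟩ : P)⁻¹ : P) : PresentedGroup lyRels)⁻¹ : Xˣ) : X) = _
          rw [show g • a = pt ⟨O.par i, hp⟩ from hg, Subgroup.coe_inv, inv_inv, hel]
          show vMat (O.row (O.par i)) * _ = vMat (O.row i)
          conv_rhs => rw [← ht, ← ((hc _ hp).2.2.1 _ hv).2]
          rw [step_spec (hc _ hp).1 (hgood _ hv).1]
  have hcard : (MulAction.stabilizer P a).index = O.len := by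
    rw [MulAction.index_stabilizer, horb, Set.ncard_coe_finset, Finset.card_image_of_injective _ hinj,
      Finset.card_univ, Fintype.card_fin]
  exact hcard ▸ (Subgroup.index_dvd_card _).trans (Subgroup.card_subgroup_dvd_card P)

end Cfsg.Agent.DCoset.LyOrb
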