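import Cfsg.Agent.DCoset.LyOrb.Mats
import Cfsg.Agent.DCoset.LyOrb.Tools

/-! Generated: stored matrices are products. -/

set_option maxRecDepth 100000
set_option Elab.async false

namespace Cfsg.Agent.DCoset.LyOrb

open Cfsg.Agent.LyMat Cfsg.Agent.DCoset Cfsg.Agent.CosetCert

theorem mat_4 : (goodC 111 (rowsOf 111 (omat 14)) && relB mask111 omat id111 (rowsOf 111 (omat 14)) (oword.getD 4 [])) = true := by
  decide +kernel

theorem mat_5 : (goodC 111 (rowsOf 111 (omat 15)) && relB mask111 omat id111 (rowsOf 111 (omat 15)) (oword.getD 5 [])) = true := by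
  decide +kernel

end Cfsg.Agent.DCoset.LyOrb
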