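import Cfsg.Agent.DCoset.LyOrb.Mats
import Cfsg.Agent.DCoset.LyOrb.Tools

/-! Generated: stored matrices are products. -/

set_option maxRecDepth 100000
set_option Elab.async false

namespace Cfsg.Agent.DCoset.LyOrb

open Cfsg.Agent.LyMat Cfsg.Agent.DCoset Cfsg.Agent.CosetCert

theorem mat_6 : (goodC 111 (rowsOf 111 (omat 16)) && relB mask111 omat id111 (rowsOf 111 (omat 16)) (oword.getD 6 [])) = true := by
  decide +kernel

theorem mat_7 : (goodC 111 (rowsOf 111 (omat 17)) && relB mask111 omat id111 (rowsOf 111 (omat 17)) (oword.getD 7 [])) = true := by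
  decide +kernel

theorem mat_8 : (goodC 111 (rowsOf 111 (omat 18)) && relB mask111 omat id111 (rowsOf 111 (omat 18)) (oword.getD 8 [])) = true := by
  decide +kernel

theorem mat_9 : (goodC 111 (rowsOf 111 (omat 19)) && relB mask111 omat id111 (rowsOf 111 (omat 19)) (oword.getD 9 [])) = true := by
  decide +kernel

theorem mat_10 : (goodC 111 (rowsOf 111 (omat 20)) && relB mask111 omat id111 (rowsOf 111 (omat 20)) (oword.getD 10 [])) = true := by
  decide +kernel

theorem mat_11 : (goodC 111 (rowsOf 111 (omat 21)) && relB mask111 omat id111 (rowsOf 111 (omat 21)) (oword.getD 11 [])) = true := by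
  decide +kernel

end Cfsg.Agent.DCoset.LyOrb
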