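import Cfsg.Agent.DCoset.LyOrb.Mats
import Cfsg.Agent.DCoset.LyOrb.Tools

/-! Generated: stored matrices are products. -/

set_option maxRecDepth 100000
set_option Elab.async false

namespace Cfsg.Agent.DCoset.LyOrb

open Cfsg.Agent.LyMat Cfsg.Agent.DCoset Cfsg.Agent.CosetCert

theorem mat_19 : (goodC 111 (rowsOf 111 (omat 29)) && relB mask111 omat id111 (rowsOf 111 (omat 29)) (oword.getD 19 [])) = true := by
  decide +kernel

theorem mat_20 : (goodC 111 (rowsOf 111 (omat 30)) && relB mask111 omat id111 (rowsOf 111 (omat 30)) (oword.getD 20 [])) = true := by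
  decide +kernel

theorem mat_21 : (goodC 111 (rowsOf 111 (omat 31)) && relB mask111 omat id111 (rowsOf 111 (omat 31)) (oword.getD 21 [])) = true := by
  decide +kernel

theorem mat_22 : (goodC 111 (rowsOf 111 (omat 32)) && relB mask111 omat id111 (rowsOf 111 (omat 32)) (oword.getD 22 [])) = true := by
  decide +kernel

theorem mat_23 : (goodC 111 (rowsOf 111 (omat 33)) && relB mask111 omat id111 (rowsOf 111 (omat 33)) (oword.getD 23 [])) = true := by
  decide +kernel

theorem mat_24 : (goodC 111 (rowsOf 111 (omat 34)) && relB mask111 omat id111 (rowsOf 111 (omat 34)) (oword.getD 24 [])) = true := by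
  decide +kernel

theorem mat_25 : (goodC 111 (rowsOf 111 (omat 35)) && relB mask111 omat id111 (rowsOf 111 (omat 35)) (oword.getD 25 [])) = true := by
  decide +kernel

theorem mat_26 : (goodC 111 (rowsOf 111 (omat 36)) && relB mask111 omat id111 (rowsOf 111 (omat 36)) (oword.getD 26 [])) = true := by
  decide +kernel

theorem mat_27 : (goodC 111 (rowsOf 111 (omat 37)) && relB mask111 omat id111 (rowsOf 111 (omat 37)) (oword.getD 27 [])) = true := by
  decide +kernel

end Cfsg.Agent.DCoset.LyOrb
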