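import Cfsg.Agent.DCoset.LyOrb.Mats
import Cfsg.Agent.DCoset.LyOrb.Tools

/-! Generated: stored matrices are products. -/

set_option maxRecDepth 100000
set_option Elab.async false

namespace Cfsg.Agent.DCoset.LyOrb

open Cfsg.Agent.LyMat Cfsg.Agent.DCoset Cfsg.Agent.CosetCert

theorem mat_28 : (goodC 111 (rowsOf 111 (omat 38)) && relB mask111 omat id111 (rowsOf 111 (omat 38)) (oword.getD 28 [])) = true := by
  decide +kernel

theorem mat_29 : (goodC 111 (rowsOf 111 (omat 39)) && relB mask111 omat id111 (rowsOf 111 (omat 39)) (oword.getD 29 [])) = true := by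
  decide +kernel

theorem mat_30 : (goodC 111 (rowsOf 111 (omat 40)) && relB mask111 omat id111 (rowsOf 111 (omat 40)) (oword.getD 30 [])) = true := by
  decide +kernel

theorem mat_31 : (goodC 111 (rowsOf 111 (omat 41)) && relB mask111 omat id111 (rowsOf 111 (omat 41)) (oword.getD 31 [])) = true := by
  decide +kernel

theorem mat_32 : (goodC 111 (rowsOf 111 (omat 42)) && relB mask111 omat id111 (rowsOf 111 (omat 42)) (oword.getD 32 [])) = true := by
  decide +kernel

theorem mat_33 : (goodC 111 (rowsOf 111 (omat 43)) && relB mask111 omat id111 (rowsOf 111 (omat 43)) (oword.getD 33 [])) = true := by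
  decide +kernel

theorem mat_34 : (goodC 111 (rowsOf 111 (omat 44)) && relB mask111 omat id111 (rowsOf 111 (omat 44)) (oword.getD 34 [])) = true := by
  decide +kernel

end Cfsg.Agent.DCoset.LyOrb
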