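import Cfsg.Agent.DCoset.LyOrb.Mats
import Cfsg.Agent.DCoset.LyOrb.Tools

/-! Generated: stored matrices are products. -/

set_option maxRecDepth 100000
set_option Elab.async false

namespace Cfsg.Agent.DCoset.LyOrb

open Cfsg.Agent.LyMat Cfsg.Agent.DCoset Cfsg.Agent.CosetCert

theorem mat_35 : (goodC 111 (rowsOf 111 (omat 45)) && relB mask111 omat id111 (rowsOf 111 (omat 45)) (oword.getD 35 [])) = true := by
  decide +kernel

theorem mat_36 : (goodC 111 (rowsOf 111 (omat 46)) && relB mask111 omat id111 (rowsOf 111 (omat 46)) (oword.getD 36 [])) = true := by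
  decide +kernel

theorem mat_37 : (goodC 111 (rowsOf 111 (omat 47)) && relB mask111 omat id111 (rowsOf 111 (omat 47)) (oword.getD 37 [])) = true := by
  decide +kernel

theorem mat_38 : (goodC 111 (rowsOf 111 (omat 48)) && relB mask111 omat id111 (rowsOf 111 (omat 48)) (oword.getD 38 [])) = true := by
  decide +kernel

theorem mat_39 : (goodC 111 (rowsOf 111 (omat 49)) && relB mask111 omat id111 (rowsOf 111 (omat 49)) (oword.getD 39 [])) = true := by
  decide +kernel

theorem mat_40 : (goodC 111 (rowsOf 111 (omat 50)) && relB mask111 omat id111 (rowsOf 111 (omat 50)) (oword.getD 40 [])) = true := by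
  decide +kernel

theorem mat_41 : (goodC 111 (rowsOf 111 (omat 51)) && relB mask111 omat id111 (rowsOf 111 (omat 51)) (oword.getD 41 [])) = true := by
  decide +kernel

theorem mat_42 : (goodC 111 (rowsOf 111 (omat 52)) && relB mask111 omat id111 (rowsOf 111 (omat 52)) (oword.getD 42 [])) = true := by
  decide +kernel

end Cfsg.Agent.DCoset.LyOrb
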