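import Cfsg.Agent.DCoset.LyOrb.Orb_c11

/-! Generated: orbit checks. -/

set_option maxRecDepth 100000
set_option Elab.async false

namespace Cfsg.Agent.DCoset.LyOrb

open Cfsg.Agent.LyMat Cfsg.Agent.DCoset Cfsg.Agent.CosetCert

theorem c11_ok0 : allFrom c11.check 0 11 = true := by
  decide +kernel

theorem c11_all : ∀ i, i < c11.len → c11.check i = true := by
  intro i hi
  have h : allFrom c11.check 0 11 = true :=
    c11_ok0
  exact allFrom_all h hi
end Cfsg.Agent.DCoset.LyOrb
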