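import Cfsg.Agent.DCoset.LyOrb.Orb_p3

/-! Generated: orbit checks. -/

set_option maxRecDepth 100000
set_option Elab.async false

namespace Cfsg.Agent.DCoset.LyOrb

open Cfsg.Agent.LyMat Cfsg.Agent.DCoset Cfsg.Agent.CosetCert

theorem p3_ok0 : allFrom p3.check 0 400 = true := by
  decide +kernel

theorem p3_ok1 : allFrom p3.check 400 400 = true := by
  decide +kernel

theorem p3_ok2 : allFrom p3.check 800 400 = true := by
  decide +kernel

theorem p3_ok3 : allFrom p3.check 1200 400 = true := by
  decide +kernel

theorem p3_ok4 : allFrom p3.check 1600 400 = true := by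
  decide +kernel

theorem p3_ok5 : allFrom p3.check 2000 187 = true := by
  decide +kernel

theorem p3_all : ∀ i, i < p3.len → p3.check i = true := by
  intro i hi
  have h : allFrom p3.check 0 2187 = true :=
    (allFrom_append 2000 (allFrom_append 1600 (allFrom_append 1200 (allFrom_append 800 (allFrom_append 400 p3_ok0 p3_ok1) p3_ok2) p3_ok3) p3_ok4) p3_ok5)
  exact allFrom_all h hi
end Cfsg.Agent.DCoset.LyOrb
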