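import Cfsg.Agent.DCoset.LyOrb.CheckMat0
import Cfsg.Agent.DCoset.LyOrb.CheckMat1
import Cfsg.Agent.DCoset.LyOrb.CheckMat2
import Cfsg.Agent.DCoset.LyOrb.CheckMat3
import Cfsg.Agent.DCoset.LyOrb.CheckMat4
import Cfsg.Agent.DCoset.LyOrb.CheckMat5
import Cfsg.Agent.DCoset.LyOrb.CheckMat6
import Cfsg.Agent.DCoset.LyOrb.CheckMat7
import Cfsg.Agent.DCoset.LyOrb.Check_c11
import Cfsg.Agent.DCoset.LyOrb.Check_c37
import Cfsg.Agent.DCoset.LyOrb.Check_c67
import Cfsg.Agent.DCoset.LyOrb.Check_p2
import Cfsg.Agent.DCoset.LyOrb.Check_p3

/-! Generated: five divisors of the order. -/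

set_option maxRecDepth 100000

namespace Cfsg.Agent.DCoset.LyOrb

open Cfsg.Agent.LyMat Cfsg.Agent.DCoset Cfsg.Agent.CosetCert

theorem omat_img : ∀ k, k < 55 → Good 111 (rowsOf 111 (omat k)) ∧
    IsImg (toMat 111 (rowsOf 111 (omat k))) := by
  have hw : ((List.range 45).all fun j => (oword.getD j []).all fun x => Nat.blt x (10 + j)) = true := by
    decide +kernel
  have hall : ∀ j, j < 45 → (goodC 111 (rowsOf 111 (omat (10 + j))) &&
      relB mask111 omat id111 (rowsOf 111 (omat (10 + j))) (oword.getD j [])) = true := by
    intro j hj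
    interval_cases j
    · exact mat_0
    · exact mat_1
    · exact mat_2
    · exact mat_3
    · exact mat_4
    · exact mat_5
    · exact mat_6
    · exact mat_7
    · exact mat_8
    · exact mat_9
    · exact mat_10
    · exact mat_11
    · exact mat_12
    · exact mat_13
    · exact mat_14
    · exact mat_15
    · exact mat_16
    · exact mat_17
    · exact mat_18
    · exact mat_19
    · exact mat_20
    · exact mat_21
    · exact mat_22
    · exact mat_23
    · exact mat_24
    · exact mat_25
    · exact mat_26
    · exact mat_27
    · exact mat_28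
    · exact mat_29
    · exact mat_30
    · exact mat_31
    · exact mat_32
    · exact mat_33
    · exact mat_34
    · exact mat_35
    · exact mat_36
    · exact mat_37
    · exact mat_38
    · exact mat_39
    · exact mat_40
    · exact mat_41
    · exact mat_42
    · exact mat_43
    · exact mat_44
  have hgood : ∀ k, Good 111 (rowsOf 111 (omat k)) := by
    intro k
    rcases Nat.lt_or_ge k 10 with h | h
    · rw [omat, if_pos h]; exact good_m111 k
    · rcases Nat.lt_or_ge k 55 with h' | h'
      · have := hall (k - 10) (by omega)
        rw [Nat.add_sub_cancel' h, Bool.and_eq_true] at this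
        exact good_of_check this.1
      · rw [omat, if_neg (by omega), List.getD_eq_default _ _ (by simp; omega)]
        exact good_m111 0
  intro k
  induction k using Nat.strong_induction_on with
  | _ k ih =>
    intro hk
    refine ⟨hgood k, ?_⟩
    rcases Nat.lt_or_ge k 10 with h | h
    · rw [omat, if_pos h]
      exact isImg_letter k h
    · have h1 := hall (k - 10) (by omega)
      rw [Nat.add_sub_cancel' h, Bool.and_eq_true] at h1
      rw [← relB_spec (by norm_num) mask111_eq hgood good_id111 (toMat_one id111_check) h1.2]
      refine isImg_prod _ fun M hM => ?_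
      obtain ⟨x, hx, rfl⟩ := List.mem_map.1 hM
      have hlt := List.all_eq_true.1 (List.all_eq_true.1 hw (k - 10) (List.mem_range.2 (by omega))) x hx
      have hlt' := Nat.ble_eq.mp hlt
      exact (ih x (by omega) (by omega)).2

theorem dvd_all (hf : Finite (PresentedGroup lyRels)) :
    11 ∣ Nat.card (PresentedGroup lyRels) ∧ 37 ∣ Nat.card (PresentedGroup lyRels) ∧
    67 ∣ Nat.card (PresentedGroup lyRels) ∧ 256 ∣ Nat.card (PresentedGroup lyRels) ∧
    2187 ∣ Nat.card (PresentedGroup lyRels) := by
  refine ⟨?_, ?_, ?_, ?_, ?_⟩
  · exact c11.dvd_card (by decide +kernel) (fun k hk => omat_img _ (by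
      change k < 1 at hk
      interval_cases k <;> decide)) c11_all
  · exact c37.dvd_card (by decide +kernel) (fun k hk => omat_img _ (by
      change k < 1 at hk
      interval_cases k <;> decide)) c37_all
  · exact c67.dvd_card (by decide +kernel) (fun k hk => omat_img _ (by
      change k < 1 at hk
      interval_cases k <;> decide)) c67_all
  · exact p2.dvd_card (by decide +kernel) (fun k hk => omat_img _ (by
      change k < 3 at hk
      interval_cases k <;> decide)) p2_all
  · exact p3.dvd_card (by decide +kernel) (fun k hk => omat_img _ (by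
      change k < 3 at hk
      interval_cases k <;> decide)) p3_all
end Cfsg.Agent.DCoset.LyOrb
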