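import Cfsg.Agent.LyMat.Maps
import Cfsg.Agent.DCoset.LyOrb.Data0
import Cfsg.Agent.DCoset.LyOrb.Data1
import Cfsg.Agent.DCoset.LyOrb.Data2
import Cfsg.Agent.DCoset.LyOrb.Data3
import Cfsg.Agent.DCoset.LyOrb.Data4
import Cfsg.Agent.DCoset.LyOrb.Data5
import Cfsg.Agent.DCoset.LyOrb.Data6
import Cfsg.Agent.DCoset.LyOrb.Data7

/-! Generated: the matrices and their words. -/

set_option maxRecDepth 100000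

namespace Cfsg.Agent.DCoset.LyOrb

open Cfsg.Agent.LyMat Cfsg.Agent.DCoset Cfsg.Agent.CosetCert

/-- The ten letters, then the stored matrices. -/
def omat (k : Nat) : List Blk :=
  if k < 10 then m111 k else [om10, om11, om12, om13, om14, om15, om16, om17, om18, om19, om20, om21, om22, om23, om24, om25, om26, om27, om28, om29, om30, om31, om32, om33, om34, om35, om36, om37, om38, om39, om40, om41, om42, om43, om44, om45, om46, om47, om48, om49, om50, om51, om52, om53, om54].getD (k - 10) (m111 0)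

/-- Each stored matrix as a product of earlier ones. -/
def oword : List (List Nat) := [
  [2, 6, 4, 0, 0, 0, 0, 9, 1, 7, 0, 0, 0, 0, 2, 6, 4, 0, 0, 0, 0, 9, 1, 7, 0, 0, 0, 0, 2, 6, 4, 5, 5, 5],
  [1, 6, 6, 2, 0, 3, 9, 0, 0, 0, 0, 4, 8, 5, 7, 1, 0, 0, 0, 0, 6, 2, 0, 3, 9, 0, 0, 0, 0, 4, 8, 5, 7, 1, 0, 0, 0, 0, 6, 2, 0, 3, 9],
  [8, 9, 6, 5, 3, 5, 8, 8],
  [5, 3, 6, 4, 5, 7, 0, 0, 0, 0, 2, 0, 9, 1, 8, 0, 0, 0, 0, 3, 6, 4, 5, 7, 0, 0, 0, 0, 2, 0, 9, 1, 8, 0, 0, 0, 0, 3, 6, 4, 5, 7],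
  [1, 6, 8, 2, 1, 1, 5, 6, 7, 0, 4, 0, 0, 0, 0, 9, 5, 2, 1, 0, 6, 6, 7, 3, 0, 0, 0, 0, 8, 2, 1, 1, 5, 6, 7, 0, 4, 0, 0, 0, 0, 9, 5, 2, 1, 0, 6, 6, 7, 3, 0, 0, 0, 0, 8, 2, 1, 1, 5, 6, 7, 0, 4],
  [1, 9, 9, 0, 3, 7, 9, 1, 6, 8, 4, 2, 1, 8, 0, 0, 0, 0, 3, 6, 7, 9, 3, 4, 2, 8, 5, 4, 4, 6, 0, 0, 0, 0, 1, 9, 9, 0, 3, 7, 9, 8, 4, 2, 1, 8, 0, 0, 0, 0, 3, 6, 7, 9, 3, 4, 2, 8, 5, 4, 4, 6, 0, 0, 0, 0, 1, 9, 9, 0, 3, 7, 9, 8, 4, 2, 1, 8],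
  [7, 1, 1, 6, 5, 1, 7, 2, 9, 8, 9, 2, 7, 6, 0, 0, 0, 0, 1, 4, 3, 4, 6, 0, 6, 2, 0, 0, 0, 0, 7, 1, 5, 1, 9, 8, 9, 6, 0, 0, 0, 0, 1, 4, 3, 4, 6, 0, 6, 2, 0, 0, 0, 0, 7, 1, 5, 1, 9, 8, 9, 6],
  [1, 1, 14, 10],
  [17, 17, 17, 17, 17, 17, 17],
  [10, 10, 10, 10, 10, 10, 10, 10, 10, 10, 10, 10, 10, 10, 10, 10, 10, 10, 10],
  [14, 14, 14, 14, 14, 14],
  [11, 11, 11, 11, 11],
  [16, 16, 16, 16, 16, 16, 16, 16, 16, 16, 16, 16, 16, 16, 16, 16, 16, 16, 16],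
  [12, 12, 12, 12, 12, 12, 12, 12, 12, 12, 12, 12, 12, 12, 12, 12, 12, 12, 12, 12, 12, 12, 12],
  [15, 15, 15, 15, 15, 15, 15],
  [13, 13, 13, 13, 13, 13, 13, 13, 13, 13, 13, 13, 13, 13, 13, 13, 13, 13, 13, 13, 13, 13, 13, 13, 13, 13, 13],
  [6, 18, 1],
  [21, 6, 6, 18, 1, 1, 11],
  [22, 23, 6, 18, 1, 12, 16],
  [25, 5, 6, 18, 1, 0, 13],
  [20, 23, 21, 18, 11, 12, 14],
  [19, 20, 22, 19, 18, 10, 16, 14, 10],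
  [5, 20, 23, 25, 18, 13, 12, 14, 0],
  [24, 20, 25, 25, 18, 13, 13, 14, 15],
  [28, 31, 31, 32, 28, 28, 0, 0, 0, 0],
  [29, 29, 32, 0, 0, 0, 0],
  [26, 29, 29, 27, 26, 26, 0, 0, 0, 0],
  [26, 30, 30, 27, 26, 26, 0, 0, 0, 0],
  [27, 30, 30, 33, 27, 27, 0, 0, 0, 0],
  [28, 33, 33, 32, 28, 28, 0, 0, 0, 0],
  [29, 30, 30, 31, 29, 29, 0, 0, 0, 0],
  [18, 26, 28, 29, 31, 18, 18, 27, 30, 30],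
  [18, 26, 28, 32, 18, 33, 27, 32],
  [0, 0, 0, 0, 2, 3, 0, 5, 2, 4, 1, 1, 5, 0, 0, 0, 0, 0, 6, 6, 9, 7, 0, 5, 8, 7],
  [2, 3, 0, 5, 2, 4, 1, 1, 5, 0, 0, 0, 0, 0, 6, 6, 9, 7, 0, 5, 8, 7, 42],
  [43, 43, 43, 44, 44, 44, 44, 44, 44, 44, 44],
  [45, 45, 45, 45, 45, 45, 45, 45, 45, 45, 45, 45, 45, 45],
  [40, 46, 35, 45, 46, 35, 45],
  [36, 37, 34, 39, 46, 38, 45, 36, 37, 34, 39, 46, 38, 45],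
  [31, 32, 32, 31],
  [26, 18],
  [18, 26, 29, 30, 18, 26, 28, 27],
  [8, 7, 0, 1, 5, 1, 5, 0, 7, 7, 9, 2, 8, 7, 0, 1, 5, 1, 5, 0, 7, 7, 9, 2, 8, 7, 0, 1, 5, 1, 5, 0, 7, 7, 9, 2],
  [3, 5, 2, 1, 5, 7, 9],
  [4, 1, 3, 0, 3, 7, 1, 4, 4, 4, 3]]
end Cfsg.Agent.DCoset.LyOrb
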